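import Cfsg.Agent.Spor.ONTA1.D0

set_option autoImplicit false
set_option maxRecDepth 100000000
set_option Elab.async false

namespace Cfsg.Agent.Spor.ONTA1

theorem ok0 : Net.okb 1 n0 = true := by decide +kernel

theorem ok1 : Net.okb 1 n1 = true := by decide +kernel

theorem ok2 : Net.okb 1 n2 = true := by decide +kernel

theorem ok3 : Net.okb 1 n3 = true := by decide +kernel

theorem ok4 : Net.okb 1 n4 = true := by decide +kernel

theorem ok5 : Net.okb 1 n5 = true := by decide +kernel

theorem ok6 : Net.okb 1 n6 = true := by decide +kernel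

theorem rel0 : T.rel 1 [1, 1] 0 1 = true := by decide +kernel

theorem rel1 : T.rel 1 [2, 2] 0 1 = true := by decide +kernel

theorem rel2 : T.rel 1 [3, 3] 0 1 = true := by decide +kernel

theorem rel3 : T.rel 1 [4, 4] 0 1 = true := by decide +kernel

theorem rel4 : T.rel 1 [5, 5] 0 1 = true := by decide +kernel

theorem rel5 : T.rel 1 [6, 6] 0 1 = true := by decide +kernel

theorem rel6 : T.rel 1 [2, 1, 2, 1, 2, 1] 0 1 = true := by decide +kernel

theorem rel7 : T.rel 1 [3, 1, 3, 1] 0 1 = true := by decide +kernel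

theorem rel8 : T.rel 1 [4, 1, 4, 1] 0 1 = true := by decide +kernel

theorem rel9 : T.rel 1 [5, 1, 5, 1] 0 1 = true := by decide +kernel

theorem rel10 : T.rel 1 [6, 1, 6, 1] 0 1 = true := by decide +kernel

theorem rel11 : T.rel 1 [3, 2, 3, 2, 3, 2] 0 1 = true := by decide +kernel

theorem rel12 : T.rel 1 [4, 2, 4, 2] 0 1 = true := by decide +kernel

theorem rel13 : T.rel 1 [5, 2, 5, 2] 0 1 = true := by decide +kernel

theorem rel14 : T.rel 1 [6, 2, 6, 2] 0 1 = true := by decide +kernel

theorem rel15 : T.rel 1 [4, 3, 4, 3, 4, 3, 4, 3, 4, 3, 4, 3, 4, 3, 4, 3] 0 1 = true := by decide +kernel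

theorem rel16 : T.rel 1 [5, 3, 5, 3] 0 1 = true := by decide +kernel

theorem rel17 : T.rel 1 [6, 3, 6, 3] 0 1 = true := by decide +kernel

theorem rel18 : T.rel 1 [5, 4, 5, 4, 5, 4] 0 1 = true := by decide +kernel

theorem rel19 : T.rel 1 [6, 4, 6, 4] 0 1 = true := by decide +kernel

theorem rel20 : T.rel 1 [6, 5, 6, 5, 6, 5] 0 1 = true := by decide +kernel

theorem rel21 : T.rel 1 [8, 8, 6, 1] 0 1 = true := by decide +kernel

theorem rel22 : T.rel 1 [3, 4, 3, 4, 3, 4, 3, 4, 6, 1] 0 1 = true := by decide +kernel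

theorem rel23 : T.rel 1 [7, 4, 7, 4, 3, 4, 8, 4, 8, 3] 0 1 = true := by decide +kernel

theorem rel24 : T.rel 1 [7, 3, 7, 3, 4, 3, 8, 3, 8, 4] 0 1 = true := by decide +kernel

theorem rel25 : T.rel 1 [8, 2, 3, 8, 3, 2, 8, 2, 3, 8, 3, 7, 4, 3, 2, 7, 4, 3, 2, 7, 4, 3, 2, 7, 4, 3, 2, 7, 4, 3, 2] 0 1 = true := by decide +kernel

theorem rel26 : T.rel 1 [7, 4, 3, 2, 7, 4, 3, 2, 7, 4, 3, 2, 7, 4, 3, 2, 7, 4, 3, 2, 7, 4, 3, 2, 7, 4, 3, 2, 7, 4, 3, 2, 7, 4, 3, 2, 7, 4, 3, 2, 7, 4, 3, 2, 7, 4, 3, 2, 7, 4, 3, 2, 7, 4, 3, 2, 7, 4, 3, 2] 0 1 = true := by decide +kernel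

theorem rel27 : T.rel 1 [2, 1, 2, 1] 0 1 = true := by decide +kernel

theorem rel28 : T.rel 1 [8, 1, 7, 1] 0 1 = true := by decide +kernel

theorem rel29 : T.rel 1 [3, 2, 3, 2] 0 1 = true := by decide +kernel

theorem rel30 : T.rel 1 [8, 2, 7, 2] 0 1 = true := by decide +kernel

theorem rel31 : T.rel 1 [4, 3, 4, 3] 0 1 = true := by decide +kernel

theorem rel32 : T.rel 1 [8, 3, 7, 3] 0 1 = true := by decide +kernel

theorem rel33 : T.rel 1 [5, 4, 5, 4] 0 1 = true := by decide +kernel

theorem rel34 : T.rel 1 [8, 4, 7, 4] 0 1 = true := by decide +kernel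

theorem rel35 : T.rel 1 [6, 5, 6, 5] 0 1 = true := by decide +kernel

theorem rel36 : T.rel 1 [8, 5, 7, 5] 0 1 = true := by decide +kernel

theorem rel37 : T.rel 1 [8, 6, 7, 6] 0 1 = true := by decide +kernel

theorem hcov : T.treeCov (ones 1) L 1 = true := by decide +kernel

theorem hg : lall (fun z => band (memL L z) (band (sub (ones 1) (T.let z).cl) (T.closed (ones 1) z))) gs = true := by decide +kernel

theorem hivk : ivOk (2 * 6) EX IV = true := by decide +kernel

theorem hrt : RT.ok (2 * 6) EX RL = true := by decide +kernel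

theorem hdefs : defs F 19 = true := by decide +kernel

noncomputable def st0_l : List Nat := [nat_lit 0x100000100000003, nat_lit 0x880009c00002000030000880009c06, nat_lit 0x100001480000403, nat_lit 0x1500009c02, nat_lit 0x120000200000003, nat_lit 0x4000168000b803, nat_lit 0x178000b00000a00031000178000b006, nat_lit 0x130001980000003, nat_lit 0x1a00001002, nat_lit 0x140000300000003, nat_lit 0x60001b0000e003, nat_lit 0x180006c000380001d0000180006c000380001d00005409, nat_lit 0x50000000006e000070001d8000e40006e000070001d8000e40a, nat_lit 0x1f00002802, nat_lit 0x1c000000002080003404, nat_lit 0x2100003802, nat_lit 0x160000300002403, nat_lit 0x230000580000c000090002300005806, nat_lit 0x470002480001803, nat_lit 0x2500005802, nat_lit 0x140002600000003, nat_lit 0x1e000130000800004e0001e00013006, nat_lit 0x150002880000003, nat_lit 0x2900001802, nat_lit 0x180002280000003, nat_lit 0x180000600000003, nat_lit 0x450001680015803, nat_lit 0x450001b00015803, nat_lit 0x450002a00015803, nat_lit 0x570002a8000d8000580000d0002f800170000b6000570002a8000d8000580000d0002f800170000b6000570002a8000d800058000440002d800170000180003600016000110000b60005c000060000d81f,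 nat_lit 0x190003080000403, nat_lit 0x3000016402, nat_lit 0x3100003002, nat_lit 0xa80003700016800190000aa0003600016000198000a80003700016800190000aa0003600016000198000a80003700016800190000aa0003600016000198000a80003700016800190000aa0003600016000198000a80003700016800190000aa0003600016000198000a80003700016800190000aa0003600016000198000a80003700016800190000aa0003600016000198000a800037000168001903c, nat_lit 0x8001a402, nat_lit 0x1a0003580006c03, nat_lit 0x36000068000d40001b0003600006806, nat_lit 0xd8001bc02, nat_lit 0x1c0003880007403, nat_lit 0x39000070000e00001d0003900007006, nat_lit 0xe8001d402, nat_lit 0x1e0003580007c03, nat_lit 0x1e0003b80007c03, nat_lit 0x78000ec0001f0003d000078000ee0001f0003d8001e409, nat_lit 0x200003e80008403, nat_lit 0x3f000080000f8000210003f00008006, nat_lit 0x4000008002, nat_lit 0x1f0004100007803, nat_lit 0x418000780010a0001f0004180007806, nat_lit 0xf80021c02, nat_lit 0x220000ec000880003b000220000ec000880003b8001ac09, nat_lit 0x220004480008c03, nat_lit 0x4600008800110000230004600008806, nat_lit 0x1180023c02,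 nat_lit 0x24000458001ac03, nat_lit 0x240003880009403, nat_lit 0x240003b80009403, nat_lit 0x240004480009403, nat_lit 0x96000498001d8000e0000250004a00025800126000760003800009400128000960004c000090000e0000760004400024800128000960004c000090000e0000760004400024800128000960004c0000901f, nat_lit 0x1280026c02]
theorem st0 : band (steps F IV RT base st0_l 19) (Nat.beq (Nat.add 19 (llen st0_l)) 79) = true := by decide +kernel

theorem ep0a : T.treePath [] (Nat.shiftLeft 1 0) 1 = true := by decide +kernel

theorem ep0b : T.treePath [] (Nat.shiftLeft 1 0) 1 = true := by decide +kernel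

theorem ep0c : band (lall (fun z => Nat.ble z 255) ([] ++ 1 :: [])) (concl F IV 79 0x1a801 (encA ([] ++ 1 :: []) 0)) = true := by decide +kernel

theorem ep0d : band (Rule.ok (2 * 6) EX [] ⟨lapp [] [], [], 0, false⟩) (band (lall (memL L) []) (lall (memL L) [])) = true := by decide +kernel

theorem cov1 : T.cover 1 [(Nat.shiftLeft 1 0)] = true := by decide +kernel

theorem tl1 : Nat.beq (T.let 1).tt 0 = true := by decide +kernel

theorem ep1a : T.treePath [] (Nat.shiftLeft 1 0) 1 = true := by decide +kernel

theorem ep1b : T.treePath [] (Nat.shiftLeft 1 0) 1 = true := by decide +kernel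

theorem ep1c : band (lall (fun z => Nat.ble z 255) ([] ++ 2 :: [])) (concl F IV 79 0x1c001 (encA ([] ++ 2 :: []) 0)) = true := by decide +kernel

theorem ep1d : band (Rule.ok (2 * 6) EX [] ⟨lapp [] [], [], 0, false⟩) (band (lall (memL L) []) (lall (memL L) [])) = true := by decide +kernel

theorem cov2 : T.cover 2 [(Nat.shiftLeft 1 0)] = true := by decide +kernel

theorem tl2 : Nat.beq (T.let 2).tt 0 = true := by decide +kernel

theorem ep2a : T.treePath [] (Nat.shiftLeft 1 0) 1 = true := by decide +kernel

theorem ep2b : T.treePath [] (Nat.shiftLeft 1 0) 1 = true := by decide +kernel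

theorem ep2c : band (lall (fun z => Nat.ble z 255) ([] ++ 3 :: [])) (concl F IV 79 0x1d801 (encA ([] ++ 3 :: []) 0)) = true := by decide +kernel

theorem ep2d : band (Rule.ok (2 * 6) EX [] ⟨lapp [] [], [], 0, false⟩) (band (lall (memL L) []) (lall (memL L) [])) = true := by decide +kernel

theorem cov3 : T.cover 3 [(Nat.shiftLeft 1 0)] = true := by decide +kernel

theorem tl3 : Nat.beq (T.let 3).tt 0 = true := by decide +kernel

theorem ep3a : T.treePath [] (Nat.shiftLeft 1 0) 1 = true := by decide +kernel

theorem ep3b : T.treePath [] (Nat.shiftLeft 1 0) 1 = true := by decide +kernel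

theorem ep3c : band (lall (fun z => Nat.ble z 255) ([] ++ 4 :: [])) (concl F IV 79 0x22001 (encA ([] ++ 4 :: []) 0)) = true := by decide +kernel

theorem ep3d : band (Rule.ok (2 * 6) EX [] ⟨lapp [] [], [], 0, false⟩) (band (lall (memL L) []) (lall (memL L) [])) = true := by decide +kernel

theorem cov4 : T.cover 4 [(Nat.shiftLeft 1 0)] = true := by decide +kernel

theorem tl4 : Nat.beq (T.let 4).tt 0 = true := by decide +kernel

theorem ep4a : T.treePath [] (Nat.shiftLeft 1 0) 1 = true := by decide +kernel

theorem ep4b : T.treePath [] (Nat.shiftLeft 1 0) 1 = true := by decide +kernel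

theorem ep4c : band (lall (fun z => Nat.ble z 255) ([] ++ 5 :: [])) (concl F IV 79 0x24001 (encA ([] ++ 5 :: []) 0)) = true := by decide +kernel

theorem ep4d : band (Rule.ok (2 * 6) EX [] ⟨lapp [] [], [], 0, false⟩) (band (lall (memL L) []) (lall (memL L) [])) = true := by decide +kernel

theorem cov5 : T.cover 5 [(Nat.shiftLeft 1 0)] = true := by decide +kernel

theorem tl5 : Nat.beq (T.let 5).tt 0 = true := by decide +kernel

theorem rot6_1 : T.rot 6 [7, 7, 1] (sel (ones 1) ip6 1) = true := by decide +kernel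

theorem rot6_1r : band (Rule.ok (2 * 6) EX RL ⟨6 :: [7, 7, 1], [0], 15, false⟩) (lall (memL L) [7, 7, 1]) = true := by decide +kernel

theorem cov6 : T.cover 6 [(sel (ones 1) ip6 1)] = true := by decide +kernel

theorem tl6 : Nat.beq (T.let 6).tt 0 = true := by decide +kernel

theorem ep5a : T.treePath [] (Nat.shiftLeft 1 0) 1 = true := by decide +kernel

theorem ep5b : T.treePath [] (Nat.shiftLeft 1 0) 1 = true := by decide +kernel

theorem ep5c : band (lall (fun z => Nat.ble z 255) ([] ++ 7 :: [])) (concl F IV 79 0x27001 (encA ([] ++ 7 :: []) 0)) = true := by decide +kernel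

theorem ep5d : band (Rule.ok (2 * 6) EX [] ⟨lapp [] [], [], 0, false⟩) (band (lall (memL L) []) (lall (memL L) [])) = true := by decide +kernel

theorem cov7 : T.cover 7 [(Nat.shiftLeft 1 0)] = true := by decide +kernel

theorem tl7 : Nat.beq (T.let 7).tt 0 = true := by decide +kernel

theorem rot8_1 : T.rot 8 [1, 7, 1] (sel (ones 1) ip8 1) = true := by decide +kernel

theorem rot8_1r : band (Rule.ok (2 * 6) EX RL ⟨8 :: [1, 7, 1], [], 26, true⟩) (lall (memL L) [1, 7, 1]) = true := by decide +kernel

theorem cov8 : T.cover 8 [(sel (ones 1) ip8 1)] = true := by decide +kernel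

theorem tl8 : Nat.beq (T.let 8).tt 0 = true := by decide +kernel

end Cfsg.Agent.Spor.ONTA1
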