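import Cfsg.Agent.Spor.Chk

set_option autoImplicit false
set_option maxRecDepth 100000000
set_option Elab.async false
noncomputable section

namespace Cfsg.Agent.Spor.ONTA1

def n0 : Net := Net.nil

def n1 : Net := Net.nil

def n2 : Net := Net.nil

def n3 : Net := Net.nil

def n4 : Net := Net.nil

def n5 : Net := Net.nil

def n6 : Net := Net.nil

def ip1 : List Nat := []
def l1 : Let := ⟨0, false, 0x1, 0x0, [0x0]⟩

def ip2 : List Nat := []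
def l2 : Let := ⟨1, false, 0x1, 0x0, [0x0]⟩

def ip3 : List Nat := []
def l3 : Let := ⟨2, false, 0x1, 0x0, [0x0]⟩

def ip4 : List Nat := []
def l4 : Let := ⟨3, false, 0x1, 0x0, [0x0]⟩

def ip5 : List Nat := []
def l5 : Let := ⟨4, false, 0x1, 0x0, [0x0]⟩

def ip6 : List Nat := [0x1]
def l6 : Let := ⟨5, false, 0x1, 0x0, [0x1]⟩

def ip7 : List Nat := []
def l7 : Let := ⟨6, false, 0x1, 0x0, [0x0]⟩

def ip8 : List Nat := [0x1]
def l8 : Let := ⟨6, true, 0x1, 0x0, [0x1]⟩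

def F : Nat := nat_lit 0x70000000000000001300013040001300013030001300013020001300000070001300000050000000000000001200012040001200000060000000000040000000000000001000000050000000010050001000010000001100011060001100010060001000010030001000010010001000000030000000000000000f0000f020000f00000020000000000000000e0000e010000e00000010000000000000000100001080000100000080000000001000000700000000000d0000d04000070000d03000070000d020000700000080000d00000070000d00001040000000000000000400001000000b00000050000b00004050000100001000000c00004000000500005040000c0000107000070000700000080000106000000000000000060000b06000040000b030000400000040000b00001030000000000000000300001000000a0000a020000300000030000a0000002000010000100000090000000000020000002000090001307000000001205000000001105000100001004000000000f03000000000e02000000000d01000070000c05000040000b01000040000a0100003000090100002000080800001000070700001000060600001000050500001000040400001000030300001000020200001000010100000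

def rt0_10 : RTree := RTree.node 0x606 ⟨[6, 6], [], 42, false⟩ (RTree.node 0x303 ⟨[3, 3], [], 42, false⟩ (RTree.node 0x202 ⟨[2, 2], [], 42, false⟩ (RTree.node 0x101 ⟨[1, 1], [], 42, false⟩ (RTree.leaf) (RTree.leaf)) (RTree.leaf)) (RTree.node 0x505 ⟨[5, 5], [], 42, false⟩ (RTree.node 0x404 ⟨[4, 4], [], 42, false⟩ (RTree.leaf) (RTree.leaf)) (RTree.leaf))) (RTree.node 0x1020102 ⟨[1, 2, 1, 2], [], 21, false⟩ (RTree.node 0x807 ⟨[8, 7], [], 42, false⟩ (RTree.node 0x708 ⟨[7, 8], [], 42, false⟩ (RTree.leaf) (RTree.leaf)) (RTree.leaf)) (RTree.node 0x1040104 ⟨[1, 4, 1, 4], [], 2, false⟩ (RTree.leaf) (RTree.leaf)))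
def rt11_20 : RTree := RTree.node 0x3040304 ⟨[3, 4, 3, 4], [], 32, false⟩ (RTree.node 0x2080207 ⟨[2, 8, 2, 7], [], 31, false⟩ (RTree.node 0x2070208 ⟨[2, 7, 2, 8], [12], 31, true⟩ (RTree.node 0x2030203 ⟨[2, 3, 2, 3], [], 27, false⟩ (RTree.leaf) (RTree.leaf)) (RTree.leaf)) (RTree.node 0x3010301 ⟨[3, 1, 3, 1], [], 1, true⟩ (RTree.leaf) (RTree.leaf))) (RTree.node 0x4010401 ⟨[4, 1, 4, 1], [], 2, true⟩ (RTree.node 0x3080307 ⟨[3, 8, 3, 7], [], 35, false⟩ (RTree.node 0x3070308 ⟨[3, 7, 3, 8], [12], 35, true⟩ (RTree.leaf) (RTree.leaf)) (RTree.leaf)) (RTree.node 0x4050405 ⟨[4, 5, 4, 5], [], 36, false⟩ (RTree.leaf) (RTree.leaf)))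
def rt0_20 : RTree := RTree.node 0x2010201 ⟨[2, 1, 2, 1], [], 21, true⟩ (rt0_10) (rt11_20)
def rt21_30 : RTree := RTree.node 0x7010607 ⟨[7, 1, 6, 7], [12], 15, false⟩ (RTree.node 0x5040504 ⟨[5, 4, 5, 4], [], 36, true⟩ (RTree.node 0x5010501 ⟨[5, 1, 5, 1], [], 3, true⟩ (RTree.node 0x4080407 ⟨[4, 8, 4, 7], [], 38, false⟩ (RTree.leaf) (RTree.leaf)) (RTree.leaf)) (RTree.node 0x6050605 ⟨[6, 5, 6, 5], [], 39, true⟩ (RTree.leaf) (RTree.leaf))) (RTree.node 0x8060108 ⟨[8, 6, 1, 8], [12], 15, true⟩ (RTree.node 0x8010701 ⟨[8, 1, 7, 1], [], 26, true⟩ (RTree.node 0x7010801 ⟨[7, 1, 8, 1], [12], 26, false⟩ (RTree.leaf) (RTree.leaf)) (RTree.leaf)) (RTree.node 0x20102010201 ⟨[2, 1, 2, 1, 2, 1], [], 0, true⟩ (RTree.leaf) (RTree.leaf)))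
def rt31_40 : RTree := RTree.node 0x4030403040304030106 ⟨[4, 3, 4, 3, 4, 3, 4, 3, 1, 6], [0, 10], 16, false⟩ (RTree.node 0x50405040504 ⟨[5, 4, 5, 4, 5, 4], [], 12, true⟩ (RTree.node 0x40504050405 ⟨[4, 5, 4, 5, 4, 5], [], 12, false⟩ (RTree.node 0x30203020302 ⟨[3, 2, 3, 2, 3, 2], [], 5, true⟩ (RTree.leaf) (RTree.leaf)) (RTree.leaf)) (RTree.node 0x50605060506 ⟨[5, 6, 5, 6, 5, 6], [], 14, false⟩ (RTree.leaf) (RTree.leaf))) (RTree.node 0x7040302070403020704030207040302070403020802030803020802030803 ⟨[7, 4, 3, 2, 7, 4, 3, 2, 7, 4, 3, 2, 7, 4, 3, 2, 7, 4, 3, 2, 8, 2, 3, 8, 3, 2, 8, 2, 3, 8, 3], [12, 2, 4, 12, 4, 2, 12, 2, 4, 12, 4], 19, true⟩ (RTree.node 0x3070302070203070302070203040802030408020304080203040802030408 ⟨[3, 7, 3, 2, 7, 2, 3, 7, 3, 2, 7, 2, 3, 4, 8, 2, 3, 4, 8, 2, 3, 4, 8, 2, 3, 4, 8, 2, 3, 4, 8], [12, 2, 4, 12, 4, 2, 12, 2, 4, 12, 4], 19, false⟩ (RTree.node 0x6010304030403040304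 ⟨[6, 1, 3, 4, 3, 4, 3, 4, 3, 4], [0, 10], 16, true⟩ (RTree.leaf) (RTree.leaf)) (RTree.leaf)) (RTree.node 0x80203040802030408020304080203040802030408020304080203040802030408020304080203040802030408020304080203040802030408020304 ⟨[8, 2, 3, 4, 8, 2, 3, 4, 8, 2, 3, 4, 8, 2, 3, 4, 8, 2, 3, 4, 8, 2, 3, 4, 8, 2, 3, 4, 8, 2, 3, 4, 8, 2, 3, 4, 8, 2, 3, 4, 8, 2, 3, 4, 8, 2, 3, 4, 8, 2, 3, 4, 8, 2, 3, 4, 8, 2, 3, 4], [13], 20, false⟩ (RTree.leaf) (RTree.leaf)))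
def rt21_40 : RTree := RTree.node 0x20302030203 ⟨[2, 3, 2, 3, 2, 3], [], 5, false⟩ (rt21_30) (rt31_40)
def rt0_40 : RTree := RTree.node 0x4070408 ⟨[4, 7, 4, 8], [12], 38, true⟩ (rt0_20) (rt21_40)
def RT : RTree := rt0_40

def NT : List Net := [n0, n1, n2, n3, n4, n5, n6]
def LT : List Let := [⟨0, false, 0, 0, []⟩, l1, l2, l3, l4, l5, l6, l7, l8]
def T : Tab := ⟨NT, LT⟩
def EX : List (List Nat) := [[], [0], [2], [4], [6], [8], [10], [12], [13]]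
def RL : List (List Nat) := [[0, 2, 0, 2, 0, 2], [0, 4, 0, 4], [0, 6, 0, 6], [0, 8, 0, 8], [0, 10, 0, 10], [2, 4, 2, 4, 2, 4], [2, 6, 2, 6], [2, 8, 2, 8], [2, 10, 2, 10], [4, 6, 4, 6, 4, 6, 4, 6, 4, 6, 4, 6, 4, 6, 4, 6], [4, 8, 4, 8], [4, 10, 4, 10], [6, 8, 6, 8, 6, 8], [6, 10, 6, 10], [8, 10, 8, 10, 8, 10], [0, 10, 13, 13], [0, 10, 6, 4, 6, 4, 6, 4, 6, 4], [4, 13, 6, 13, 6, 4, 6, 12, 6, 12], [6, 13, 4, 13, 4, 6, 4, 12, 4, 12], [2, 4, 6, 12, 2, 4, 6, 12, 2, 4, 6, 12, 2, 4, 6, 12, 2, 4, 6, 12, 4, 13, 4, 2, 13, 2, 4, 13, 4, 2, 13], [2, 4, 6, 12, 2, 4, 6, 12, 2, 4, 6, 12, 2, 4, 6, 12, 2, 4, 6, 12, 2, 4, 6, 12, 2, 4, 6, 12, 2, 4, 6, 12, 2, 4, 6, 12, 2, 4, 6, 12, 2, 4, 6, 12, 2, 4, 6, 12, 2, 4, 6, 12, 2, 4, 6, 12, 2, 4, 6, 12], [0, 2, 0, 2], [0, 4, 0, 4], [0, 6, 0, 6], [0, 8, 0, 8], [0, 10, 0, 10], [0, 12, 0, 13], [2, 4, 2, 4], [2, 6, 2, 6], [2, 8, 2, 8], [2, 10, 2, 10], [2, 12,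 2, 13], [4, 6, 4, 6], [4, 8, 4, 8], [4, 10, 4, 10], [4, 12, 4, 13], [6, 8, 6, 8], [6, 10, 6, 10], [6, 12, 6, 13], [8, 10, 8, 10], [8, 12, 8, 13], [10, 12, 10, 13]]
def XL : List (List Nat) := []
def BW : List (List Nat) := []
def IV : Nat := 0x70806050403020100
def L : List Nat := [1, 2, 3, 4, 5, 6, 7, 8]
def gs : List Nat := [1, 2, 3, 4, 5, 6, 7]
def base : List Nat := []

end Cfsg.Agent.Spor.ONTA1
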